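import Cfsg.Agent.CosetEnum.SuzU.Chain5

set_option autoImplicit false
set_option maxRecDepth 100000
set_option Elab.async false

/-! The coset action of `Cfsg.Spor.Suz` on 22880 cosets. -/

namespace CfsgLib.CosetEnum.SuzU

theorem full : B196 = 2 ^ (enum.n * CfsgLib.CosetEnum.Suz.setup.k) - 1 := by decide +kernel

theorem fix0_0 : allR (fun i => bif Nat.blt i 22880 then Nat.beq (walk tb [0, 0] i) i else true) 15 0 = true := by decide +kernel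

theorem fix0 : fixesAll 22880 tb [0, 0] 15 = true :=
  fix0_0

theorem fix1_0 : allR (fun i => bif Nat.blt i 22880 then Nat.beq (walk tb [0, 1, 0, 1, 0, 1, 0, 1, 0, 1] i) i else true) 13 0 = true := by decide +kernel

theorem fix1_1 : allR (fun i => bif Nat.blt i 22880 then Nat.beq (walk tb [0, 1, 0, 1, 0, 1, 0, 1, 0, 1] i) i else true) 13 8192 = true := by decide +kernel

theorem fix1_2 : allR (fun i => bif Nat.blt i 22880 then Nat.beq (walk tb [0, 1, 0, 1, 0, 1, 0, 1, 0, 1] i) i else true) 13 16384 = true := by decide +kernel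

theorem fix1_3 : allR (fun i => bif Nat.blt i 22880 then Nat.beq (walk tb [0, 1, 0, 1, 0, 1, 0, 1, 0, 1] i) i else true) 13 24576 = true := by decide +kernel

theorem fix1 : fixesAll 22880 tb [0, 1, 0, 1, 0, 1, 0, 1, 0, 1] 15 = true :=
  (allR_join (d := 14) (lo := 0) (hi := 16384) (allR_join (d := 13) (lo := 0) (hi := 8192) fix1_0 (by decide +kernel) fix1_1) (by decide +kernel) (allR_join (d := 13) (lo := 16384) (hi := 24576) fix1_2 (by decide +kernel) fix1_3))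

theorem fix2_0 : allR (fun i => bif Nat.blt i 22880 then Nat.beq (walk tb [0, 2, 0, 2] i) i else true) 15 0 = true := by decide +kernel

theorem fix2 : fixesAll 22880 tb [0, 2, 0, 2] 15 = true :=
  fix2_0

theorem fix3_0 : allR (fun i => bif Nat.blt i 22880 then Nat.beq (walk tb [0, 3, 0, 3] i) i else true) 15 0 = true := by decide +kernel

theorem fix3 : fixesAll 22880 tb [0, 3, 0, 3] 15 = true :=
  fix3_0

theorem fix4_0 : allR (fun i => bif Nat.blt i 22880 then Nat.beq (walk tb [0, 4, 0, 4] i) i else true) 15 0 = true := by decide +kernel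

theorem fix4 : fixesAll 22880 tb [0, 4, 0, 4] 15 = true :=
  fix4_0

theorem fix5_0 : allR (fun i => bif Nat.blt i 22880 then Nat.beq (walk tb [0, 5, 0, 5] i) i else true) 15 0 = true := by decide +kernel

theorem fix5 : fixesAll 22880 tb [0, 5, 0, 5] 15 = true :=
  fix5_0

theorem fix6_0 : allR (fun i => bif Nat.blt i 22880 then Nat.beq (walk tb [0, 6, 0, 6] i) i else true) 15 0 = true := by decide +kernel

theorem fix6 : fixesAll 22880 tb [0, 6, 0, 6] 15 = true :=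
  fix6_0

theorem fix7_0 : allR (fun i => bif Nat.blt i 22880 then Nat.beq (walk tb [1, 1] i) i else true) 15 0 = true := by decide +kernel

theorem fix7 : fixesAll 22880 tb [1, 1] 15 = true :=
  fix7_0

theorem fix8_0 : allR (fun i => bif Nat.blt i 22880 then Nat.beq (walk tb [1, 2, 1, 2, 1, 2] i) i else true) 14 0 = true := by decide +kernel

theorem fix8_1 : allR (fun i => bif Nat.blt i 22880 then Nat.beq (walk tb [1, 2, 1, 2, 1, 2] i) i else true) 14 16384 = true := by decide +kernel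

theorem fix8 : fixesAll 22880 tb [1, 2, 1, 2, 1, 2] 15 = true :=
  (allR_join (d := 14) (lo := 0) (hi := 16384) fix8_0 (by decide +kernel) fix8_1)

theorem fix9_0 : allR (fun i => bif Nat.blt i 22880 then Nat.beq (walk tb [1, 3, 1, 3] i) i else true) 15 0 = true := by decide +kernel

theorem fix9 : fixesAll 22880 tb [1, 3, 1, 3] 15 = true :=
  fix9_0

theorem fix10_0 : allR (fun i => bif Nat.blt i 22880 then Nat.beq (walk tb [1, 4, 1, 4] i) i else true) 15 0 = true := by decide +kernel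

theorem fix10 : fixesAll 22880 tb [1, 4, 1, 4] 15 = true :=
  fix10_0

theorem fix11_0 : allR (fun i => bif Nat.blt i 22880 then Nat.beq (walk tb [1, 5, 1, 5, 1, 5] i) i else true) 14 0 = true := by decide +kernel

theorem fix11_1 : allR (fun i => bif Nat.blt i 22880 then Nat.beq (walk tb [1, 5, 1, 5, 1, 5] i) i else true) 14 16384 = true := by decide +kernel

theorem fix11 : fixesAll 22880 tb [1, 5, 1, 5, 1, 5] 15 = true :=
  (allR_join (d := 14) (lo := 0) (hi := 16384) fix11_0 (by decide +kernel) fix11_1)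

theorem fix12_0 : allR (fun i => bif Nat.blt i 22880 then Nat.beq (walk tb [1, 6, 1, 6, 1, 6] i) i else true) 14 0 = true := by decide +kernel

theorem fix12_1 : allR (fun i => bif Nat.blt i 22880 then Nat.beq (walk tb [1, 6, 1, 6, 1, 6] i) i else true) 14 16384 = true := by decide +kernel

theorem fix12 : fixesAll 22880 tb [1, 6, 1, 6, 1, 6] 15 = true :=
  (allR_join (d := 14) (lo := 0) (hi := 16384) fix12_0 (by decide +kernel) fix12_1)

theorem fix13_0 : allR (fun i => bif Nat.blt i 22880 then Nat.beq (walk tb [2, 2] i) i else true) 15 0 = true := by decide +kernel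

theorem fix13 : fixesAll 22880 tb [2, 2] 15 = true :=
  fix13_0

theorem fix14_0 : allR (fun i => bif Nat.blt i 22880 then Nat.beq (walk tb [2, 3, 2, 3, 2, 3, 2, 3, 2, 3, 2, 3, 2, 3, 2, 3] i) i else true) 12 0 = true := by decide +kernel

theorem fix14_1 : allR (fun i => bif Nat.blt i 22880 then Nat.beq (walk tb [2, 3, 2, 3, 2, 3, 2, 3, 2, 3, 2, 3, 2, 3, 2, 3] i) i else true) 12 4096 = true := by decide +kernel

theorem fix14_2 : allR (fun i => bif Nat.blt i 22880 then Nat.beq (walk tb [2, 3, 2, 3, 2, 3, 2, 3, 2, 3, 2, 3, 2, 3, 2, 3] i) i else true) 12 8192 = true := by decide +kernel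

theorem fix14_3 : allR (fun i => bif Nat.blt i 22880 then Nat.beq (walk tb [2, 3, 2, 3, 2, 3, 2, 3, 2, 3, 2, 3, 2, 3, 2, 3] i) i else true) 12 12288 = true := by decide +kernel

theorem fix14_4 : allR (fun i => bif Nat.blt i 22880 then Nat.beq (walk tb [2, 3, 2, 3, 2, 3, 2, 3, 2, 3, 2, 3, 2, 3, 2, 3] i) i else true) 12 16384 = true := by decide +kernel

theorem fix14_5 : allR (fun i => bif Nat.blt i 22880 then Nat.beq (walk tb [2, 3, 2, 3, 2, 3, 2, 3, 2, 3, 2, 3, 2, 3, 2, 3] i) i else true) 12 20480 = true := by decide +kernel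

theorem fix14_6 : allR (fun i => bif Nat.blt i 22880 then Nat.beq (walk tb [2, 3, 2, 3, 2, 3, 2, 3, 2, 3, 2, 3, 2, 3, 2, 3] i) i else true) 12 24576 = true := by decide +kernel

theorem fix14_7 : allR (fun i => bif Nat.blt i 22880 then Nat.beq (walk tb [2, 3, 2, 3, 2, 3, 2, 3, 2, 3, 2, 3, 2, 3, 2, 3] i) i else true) 12 28672 = true := by decide +kernel

theorem fix14 : fixesAll 22880 tb [2, 3, 2, 3, 2, 3, 2, 3, 2, 3, 2, 3, 2, 3, 2, 3] 15 = true :=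
  (allR_join (d := 14) (lo := 0) (hi := 16384) (allR_join (d := 13) (lo := 0) (hi := 8192) (allR_join (d := 12) (lo := 0) (hi := 4096) fix14_0 (by decide +kernel) fix14_1) (by decide +kernel) (allR_join (d := 12) (lo := 8192) (hi := 12288) fix14_2 (by decide +kernel) fix14_3)) (by decide +kernel) (allR_join (d := 13) (lo := 16384) (hi := 24576) (allR_join (d := 12) (lo := 16384) (hi := 20480) fix14_4 (by decide +kernel) fix14_5) (by decide +kernel) (allR_join (d := 12) (lo := 24576) (hi := 28672) fix14_6 (by decide +kernel) fix14_7)))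

theorem fix15_0 : allR (fun i => bif Nat.blt i 22880 then Nat.beq (walk tb [2, 4, 2, 4] i) i else true) 15 0 = true := by decide +kernel

theorem fix15 : fixesAll 22880 tb [2, 4, 2, 4] 15 = true :=
  fix15_0

theorem fix16_0 : allR (fun i => bif Nat.blt i 22880 then Nat.beq (walk tb [2, 5, 2, 5] i) i else true) 15 0 = true := by decide +kernel

theorem fix16 : fixesAll 22880 tb [2, 5, 2, 5] 15 = true :=
  fix16_0

theorem fix17_0 : allR (fun i => bif Nat.blt i 22880 then Nat.beq (walk tb [2, 6, 2, 6] i) i else true) 15 0 = true := by decide +kernel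

theorem fix17 : fixesAll 22880 tb [2, 6, 2, 6] 15 = true :=
  fix17_0

theorem fix18_0 : allR (fun i => bif Nat.blt i 22880 then Nat.beq (walk tb [3, 3] i) i else true) 15 0 = true := by decide +kernel

theorem fix18 : fixesAll 22880 tb [3, 3] 15 = true :=
  fix18_0

theorem fix19_0 : allR (fun i => bif Nat.blt i 22880 then Nat.beq (walk tb [3, 4, 3, 4, 3, 4] i) i else true) 14 0 = true := by decide +kernel

theorem fix19_1 : allR (fun i => bif Nat.blt i 22880 then Nat.beq (walk tb [3, 4, 3, 4, 3, 4] i) i else true) 14 16384 = true := by decide +kernel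

theorem fix19 : fixesAll 22880 tb [3, 4, 3, 4, 3, 4] 15 = true :=
  (allR_join (d := 14) (lo := 0) (hi := 16384) fix19_0 (by decide +kernel) fix19_1)

theorem fix20_0 : allR (fun i => bif Nat.blt i 22880 then Nat.beq (walk tb [3, 5, 3, 5] i) i else true) 15 0 = true := by decide +kernel

theorem fix20 : fixesAll 22880 tb [3, 5, 3, 5] 15 = true :=
  fix20_0

theorem fix21_0 : allR (fun i => bif Nat.blt i 22880 then Nat.beq (walk tb [3, 6, 3, 6] i) i else true) 15 0 = true := by decide +kernel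

theorem fix21 : fixesAll 22880 tb [3, 6, 3, 6] 15 = true :=
  fix21_0

theorem fix22_0 : allR (fun i => bif Nat.blt i 22880 then Nat.beq (walk tb [4, 4] i) i else true) 15 0 = true := by decide +kernel

theorem fix22 : fixesAll 22880 tb [4, 4] 15 = true :=
  fix22_0

theorem fix23_0 : allR (fun i => bif Nat.blt i 22880 then Nat.beq (walk tb [4, 5, 4, 5] i) i else true) 15 0 = true := by decide +kernel

theorem fix23 : fixesAll 22880 tb [4, 5, 4, 5] 15 = true :=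
  fix23_0

theorem fix24_0 : allR (fun i => bif Nat.blt i 22880 then Nat.beq (walk tb [4, 6, 4, 6] i) i else true) 15 0 = true := by decide +kernel

theorem fix24 : fixesAll 22880 tb [4, 6, 4, 6] 15 = true :=
  fix24_0

theorem fix25_0 : allR (fun i => bif Nat.blt i 22880 then Nat.beq (walk tb [5, 5] i) i else true) 15 0 = true := by decide +kernel

theorem fix25 : fixesAll 22880 tb [5, 5] 15 = true :=
  fix25_0

theorem fix26_0 : allR (fun i => bif Nat.blt i 22880 then Nat.beq (walk tb [5, 6, 5, 6, 5, 6, 5, 6] i) i else true) 13 0 = true := by decide +kernel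

theorem fix26_1 : allR (fun i => bif Nat.blt i 22880 then Nat.beq (walk tb [5, 6, 5, 6, 5, 6, 5, 6] i) i else true) 13 8192 = true := by decide +kernel

theorem fix26_2 : allR (fun i => bif Nat.blt i 22880 then Nat.beq (walk tb [5, 6, 5, 6, 5, 6, 5, 6] i) i else true) 13 16384 = true := by decide +kernel

theorem fix26_3 : allR (fun i => bif Nat.blt i 22880 then Nat.beq (walk tb [5, 6, 5, 6, 5, 6, 5, 6] i) i else true) 13 24576 = true := by decide +kernel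

theorem fix26 : fixesAll 22880 tb [5, 6, 5, 6, 5, 6, 5, 6] 15 = true :=
  (allR_join (d := 14) (lo := 0) (hi := 16384) (allR_join (d := 13) (lo := 0) (hi := 8192) fix26_0 (by decide +kernel) fix26_1) (by decide +kernel) (allR_join (d := 13) (lo := 16384) (hi := 24576) fix26_2 (by decide +kernel) fix26_3))

theorem fix27_0 : allR (fun i => bif Nat.blt i 22880 then Nat.beq (walk tb [6, 6] i) i else true) 15 0 = true := by decide +kernel

theorem fix27 : fixesAll 22880 tb [6, 6] 15 = true :=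
  fix27_0

theorem fix28_0 : allR (fun i => bif Nat.blt i 22880 then Nat.beq (walk tb [0, 3, 2, 3, 2, 3, 2, 3, 2] i) i else true) 13 0 = true := by decide +kernel

theorem fix28_1 : allR (fun i => bif Nat.blt i 22880 then Nat.beq (walk tb [0, 3, 2, 3, 2, 3, 2, 3, 2] i) i else true) 13 8192 = true := by decide +kernel

theorem fix28_2 : allR (fun i => bif Nat.blt i 22880 then Nat.beq (walk tb [0, 3, 2, 3, 2, 3, 2, 3, 2] i) i else true) 13 16384 = true := by decide +kernel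

theorem fix28_3 : allR (fun i => bif Nat.blt i 22880 then Nat.beq (walk tb [0, 3, 2, 3, 2, 3, 2, 3, 2] i) i else true) 13 24576 = true := by decide +kernel

theorem fix28 : fixesAll 22880 tb [0, 3, 2, 3, 2, 3, 2, 3, 2] 15 = true :=
  (allR_join (d := 14) (lo := 0) (hi := 16384) (allR_join (d := 13) (lo := 0) (hi := 8192) fix28_0 (by decide +kernel) fix28_1) (by decide +kernel) (allR_join (d := 13) (lo := 16384) (hi := 24576) fix28_2 (by decide +kernel) fix28_3))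

theorem fix29_0 : allR (fun i => bif Nat.blt i 22880 then Nat.beq (walk tb [0, 6, 5, 6, 5] i) i else true) 14 0 = true := by decide +kernel

theorem fix29_1 : allR (fun i => bif Nat.blt i 22880 then Nat.beq (walk tb [0, 6, 5, 6, 5] i) i else true) 14 16384 = true := by decide +kernel

theorem fix29 : fixesAll 22880 tb [0, 6, 5, 6, 5] 15 = true :=
  (allR_join (d := 14) (lo := 0) (hi := 16384) fix29_0 (by decide +kernel) fix29_1)

theorem fix30_0 : allR (fun i => bif Nat.blt i 22880 then Nat.beq (walk tb [0, 1, 2, 5, 0, 1, 2, 5, 0, 1, 2, 5, 0, 1, 2, 5, 0, 1, 2, 5] i) i else true) 12 0 = true := by decide +kernel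

theorem fix30_1 : allR (fun i => bif Nat.blt i 22880 then Nat.beq (walk tb [0, 1, 2, 5, 0, 1, 2, 5, 0, 1, 2, 5, 0, 1, 2, 5, 0, 1, 2, 5] i) i else true) 12 4096 = true := by decide +kernel

theorem fix30_2 : allR (fun i => bif Nat.blt i 22880 then Nat.beq (walk tb [0, 1, 2, 5, 0, 1, 2, 5, 0, 1, 2, 5, 0, 1, 2, 5, 0, 1, 2, 5] i) i else true) 12 8192 = true := by decide +kernel

theorem fix30_3 : allR (fun i => bif Nat.blt i 22880 then Nat.beq (walk tb [0, 1, 2, 5, 0, 1, 2, 5, 0, 1, 2, 5, 0, 1, 2, 5, 0, 1, 2, 5] i) i else true) 12 12288 = true := by decide +kernel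

theorem fix30_4 : allR (fun i => bif Nat.blt i 22880 then Nat.beq (walk tb [0, 1, 2, 5, 0, 1, 2, 5, 0, 1, 2, 5, 0, 1, 2, 5, 0, 1, 2, 5] i) i else true) 12 16384 = true := by decide +kernel

theorem fix30_5 : allR (fun i => bif Nat.blt i 22880 then Nat.beq (walk tb [0, 1, 2, 5, 0, 1, 2, 5, 0, 1, 2, 5, 0, 1, 2, 5, 0, 1, 2, 5] i) i else true) 12 20480 = true := by decide +kernel

theorem fix30_6 : allR (fun i => bif Nat.blt i 22880 then Nat.beq (walk tb [0, 1, 2, 5, 0, 1, 2, 5, 0, 1, 2, 5, 0, 1, 2, 5, 0, 1, 2, 5] i) i else true) 12 24576 = true := by decide +kernel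

theorem fix30_7 : allR (fun i => bif Nat.blt i 22880 then Nat.beq (walk tb [0, 1, 2, 5, 0, 1, 2, 5, 0, 1, 2, 5, 0, 1, 2, 5, 0, 1, 2, 5] i) i else true) 12 28672 = true := by decide +kernel

theorem fix30 : fixesAll 22880 tb [0, 1, 2, 5, 0, 1, 2, 5, 0, 1, 2, 5, 0, 1, 2, 5, 0, 1, 2, 5] 15 = true :=
  (allR_join (d := 14) (lo := 0) (hi := 16384) (allR_join (d := 13) (lo := 0) (hi := 8192) (allR_join (d := 12) (lo := 0) (hi := 4096) fix30_0 (by decide +kernel) fix30_1) (by decide +kernel) (allR_join (d := 12) (lo := 8192) (hi := 12288) fix30_2 (by decide +kernel) fix30_3)) (by decide +kernel) (allR_join (d := 13) (lo := 16384) (hi := 24576) (allR_join (d := 12) (lo := 16384) (hi := 20480) fix30_4 (by decide +kernel) fix30_5) (by decide +kernel) (allR_join (d := 12) (lo := 24576) (hi := 28672) fix30_6 (by decide +kernel) fix30_7)))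

theorem fix31_0 : allR (fun i => bif Nat.blt i 22880 then Nat.beq (walk tb [1, 5, 6, 1, 5, 6, 1, 5, 6, 1, 5, 6, 1, 5, 6] i) i else true) 12 0 = true := by decide +kernel

theorem fix31_1 : allR (fun i => bif Nat.blt i 22880 then Nat.beq (walk tb [1, 5, 6, 1, 5, 6, 1, 5, 6, 1, 5, 6, 1, 5, 6] i) i else true) 12 4096 = true := by decide +kernel

theorem fix31_2 : allR (fun i => bif Nat.blt i 22880 then Nat.beq (walk tb [1, 5, 6, 1, 5, 6, 1, 5, 6, 1, 5, 6, 1, 5, 6] i) i else true) 12 8192 = true := by decide +kernel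

theorem fix31_3 : allR (fun i => bif Nat.blt i 22880 then Nat.beq (walk tb [1, 5, 6, 1, 5, 6, 1, 5, 6, 1, 5, 6, 1, 5, 6] i) i else true) 12 12288 = true := by decide +kernel

theorem fix31_4 : allR (fun i => bif Nat.blt i 22880 then Nat.beq (walk tb [1, 5, 6, 1, 5, 6, 1, 5, 6, 1, 5, 6, 1, 5, 6] i) i else true) 12 16384 = true := by decide +kernel

theorem fix31_5 : allR (fun i => bif Nat.blt i 22880 then Nat.beq (walk tb [1, 5, 6, 1, 5, 6, 1, 5, 6, 1, 5, 6, 1, 5, 6] i) i else true) 12 20480 = true := by decide +kernel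

theorem fix31_6 : allR (fun i => bif Nat.blt i 22880 then Nat.beq (walk tb [1, 5, 6, 1, 5, 6, 1, 5, 6, 1, 5, 6, 1, 5, 6] i) i else true) 12 24576 = true := by decide +kernel

theorem fix31_7 : allR (fun i => bif Nat.blt i 22880 then Nat.beq (walk tb [1, 5, 6, 1, 5, 6, 1, 5, 6, 1, 5, 6, 1, 5, 6] i) i else true) 12 28672 = true := by decide +kernel

theorem fix31 : fixesAll 22880 tb [1, 5, 6, 1, 5, 6, 1, 5, 6, 1, 5, 6, 1, 5, 6] 15 = true :=
  (allR_join (d := 14) (lo := 0) (hi := 16384) (allR_join (d := 13) (lo := 0) (hi := 8192) (allR_join (d := 12) (lo := 0) (hi := 4096) fix31_0 (by decide +kernel) fix31_1) (by decide +kernel) (allR_join (d := 12) (lo := 8192) (hi := 12288) fix31_2 (by decide +kernel) fix31_3)) (by decide +kernel) (allR_join (d := 13) (lo := 16384) (hi := 24576) (allR_join (d := 12) (lo := 16384) (hi := 20480) fix31_4 (by decide +kernel) fix31_5) (by decide +kernel)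 (allR_join (d := 12) (lo := 24576) (hi := 28672) fix31_6 (by decide +kernel) fix31_7)))

theorem fix32_0 : allR (fun i => bif Nat.blt i 22880 then Nat.beq (walk tb [1, 2, 3, 2, 3, 1, 2, 3, 2, 3, 1, 2, 3, 2, 3, 1, 2, 3, 2, 3, 1, 2, 3, 2, 3, 4, 1, 2, 3, 2, 3, 1, 2, 3, 2, 3, 1, 2, 3, 2, 3, 1, 2, 3, 2, 3, 1, 2, 3, 2, 3, 4, 1, 2, 3, 2, 3, 1, 2, 3, 2, 3, 1, 2, 3, 2, 3, 1, 2, 3, 2, 3, 1, 2, 3, 2, 3, 4] i) i else true) 10 0 = true := by decide +kernel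

theorem fix32_1 : allR (fun i => bif Nat.blt i 22880 then Nat.beq (walk tb [1, 2, 3, 2, 3, 1, 2, 3, 2, 3, 1, 2, 3, 2, 3, 1, 2, 3, 2, 3, 1, 2, 3, 2, 3, 4, 1, 2, 3, 2, 3, 1, 2, 3, 2, 3, 1, 2, 3, 2, 3, 1, 2, 3, 2, 3, 1, 2, 3, 2, 3, 4, 1, 2, 3, 2, 3, 1, 2, 3, 2, 3, 1, 2, 3, 2, 3, 1, 2, 3, 2, 3, 1, 2, 3, 2, 3, 4] i) i else true) 10 1024 = true := by decide +kernel

theorem fix32_2 : allR (fun i => bif Nat.blt i 22880 then Nat.beq (walk tb [1, 2, 3, 2, 3, 1, 2, 3, 2, 3, 1, 2, 3, 2, 3, 1, 2, 3, 2, 3, 1, 2, 3, 2, 3, 4, 1, 2, 3, 2, 3, 1, 2, 3, 2, 3, 1, 2, 3, 2, 3, 1, 2, 3, 2, 3, 1, 2, 3, 2, 3, 4, 1, 2, 3, 2, 3, 1, 2, 3, 2, 3, 1, 2, 3, 2, 3, 1, 2, 3, 2, 3, 1, 2, 3, 2, 3, 4] i) i else true) 10 2048 = true := by decide +kernel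

theorem fix32_3 : allR (fun i => bif Nat.blt i 22880 then Nat.beq (walk tb [1, 2, 3, 2, 3, 1, 2, 3, 2, 3, 1, 2, 3, 2, 3, 1, 2, 3, 2, 3, 1, 2, 3, 2, 3, 4, 1, 2, 3, 2, 3, 1, 2, 3, 2, 3, 1, 2, 3, 2, 3, 1, 2, 3, 2, 3, 1, 2, 3, 2, 3, 4, 1, 2, 3, 2, 3, 1, 2, 3, 2, 3, 1, 2, 3, 2, 3, 1, 2, 3, 2, 3, 1, 2, 3, 2, 3, 4] i) i else true) 10 3072 = true := by decide +kernel

theorem fix32_4 : allR (fun i => bif Nat.blt i 22880 then Nat.beq (walk tb [1, 2, 3, 2, 3, 1, 2, 3, 2, 3, 1, 2, 3, 2, 3, 1, 2, 3, 2, 3, 1, 2, 3, 2, 3, 4, 1, 2, 3, 2, 3, 1, 2, 3, 2, 3, 1, 2, 3, 2, 3, 1, 2, 3, 2, 3, 1, 2, 3, 2, 3, 4, 1, 2, 3, 2, 3, 1, 2, 3, 2, 3, 1, 2, 3, 2, 3, 1, 2, 3, 2, 3, 1, 2, 3, 2, 3, 4] i) i else true) 10 4096 = true := by decide +kernel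

theorem fix32_5 : allR (fun i => bif Nat.blt i 22880 then Nat.beq (walk tb [1, 2, 3, 2, 3, 1, 2, 3, 2, 3, 1, 2, 3, 2, 3, 1, 2, 3, 2, 3, 1, 2, 3, 2, 3, 4, 1, 2, 3, 2, 3, 1, 2, 3, 2, 3, 1, 2, 3, 2, 3, 1, 2, 3, 2, 3, 1, 2, 3, 2, 3, 4, 1, 2, 3, 2, 3, 1, 2, 3, 2, 3, 1, 2, 3, 2, 3, 1, 2, 3, 2, 3, 1, 2, 3, 2, 3, 4] i) i else true) 10 5120 = true := by decide +kernel

theorem fix32_6 : allR (fun i => bif Nat.blt i 22880 then Nat.beq (walk tb [1, 2, 3, 2, 3, 1, 2, 3, 2, 3, 1, 2, 3, 2, 3, 1, 2, 3, 2, 3, 1, 2, 3, 2, 3, 4, 1, 2, 3, 2, 3, 1, 2, 3, 2, 3, 1, 2, 3, 2, 3, 1, 2, 3, 2, 3, 1, 2, 3, 2, 3, 4, 1, 2, 3, 2, 3, 1, 2, 3, 2, 3, 1, 2, 3, 2, 3, 1, 2, 3, 2, 3, 1, 2, 3, 2, 3, 4] i) i else true) 10 6144 = true := by decide +kernel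

theorem fix32_7 : allR (fun i => bif Nat.blt i 22880 then Nat.beq (walk tb [1, 2, 3, 2, 3, 1, 2, 3, 2, 3, 1, 2, 3, 2, 3, 1, 2, 3, 2, 3, 1, 2, 3, 2, 3, 4, 1, 2, 3, 2, 3, 1, 2, 3, 2, 3, 1, 2, 3, 2, 3, 1, 2, 3, 2, 3, 1, 2, 3, 2, 3, 4, 1, 2, 3, 2, 3, 1, 2, 3, 2, 3, 1, 2, 3, 2, 3, 1, 2, 3, 2, 3, 1, 2, 3, 2, 3, 4] i) i else true) 10 7168 = true := by decide +kernel

theorem fix32_8 : allR (fun i => bif Nat.blt i 22880 then Nat.beq (walk tb [1, 2, 3, 2, 3, 1, 2, 3, 2, 3, 1, 2, 3, 2, 3, 1, 2, 3, 2, 3, 1, 2, 3, 2, 3, 4, 1, 2, 3, 2, 3, 1, 2, 3, 2, 3, 1, 2, 3, 2, 3, 1, 2, 3, 2, 3, 1, 2, 3, 2, 3, 4, 1, 2, 3, 2, 3, 1, 2, 3, 2, 3, 1, 2, 3, 2, 3, 1, 2, 3, 2, 3, 1, 2, 3, 2, 3, 4] i) i else true) 10 8192 = true := by decide +kernel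

theorem fix32_9 : allR (fun i => bif Nat.blt i 22880 then Nat.beq (walk tb [1, 2, 3, 2, 3, 1, 2, 3, 2, 3, 1, 2, 3, 2, 3, 1, 2, 3, 2, 3, 1, 2, 3, 2, 3, 4, 1, 2, 3, 2, 3, 1, 2, 3, 2, 3, 1, 2, 3, 2, 3, 1, 2, 3, 2, 3, 1, 2, 3, 2, 3, 4, 1, 2, 3, 2, 3, 1, 2, 3, 2, 3, 1, 2, 3, 2, 3, 1, 2, 3, 2, 3, 1, 2, 3, 2, 3, 4] i) i else true) 10 9216 = true := by decide +kernel

theorem fix32_10 : allR (fun i => bif Nat.blt i 22880 then Nat.beq (walk tb [1, 2, 3, 2, 3, 1, 2, 3, 2, 3, 1, 2, 3, 2, 3, 1, 2, 3, 2, 3, 1, 2, 3, 2, 3, 4, 1, 2, 3, 2, 3, 1, 2, 3, 2, 3, 1, 2, 3, 2, 3, 1, 2, 3, 2, 3, 1, 2, 3, 2, 3, 4, 1, 2, 3, 2, 3, 1, 2, 3, 2, 3, 1, 2, 3, 2, 3, 1, 2, 3, 2, 3, 1, 2, 3, 2, 3, 4] i) i else true) 10 10240 = true := by decide +kernel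

theorem fix32_11 : allR (fun i => bif Nat.blt i 22880 then Nat.beq (walk tb [1, 2, 3, 2, 3, 1, 2, 3, 2, 3, 1, 2, 3, 2, 3, 1, 2, 3, 2, 3, 1, 2, 3, 2, 3, 4, 1, 2, 3, 2, 3, 1, 2, 3, 2, 3, 1, 2, 3, 2, 3, 1, 2, 3, 2, 3, 1, 2, 3, 2, 3, 4, 1, 2, 3, 2, 3, 1, 2, 3, 2, 3, 1, 2, 3, 2, 3, 1, 2, 3, 2, 3, 1, 2, 3, 2, 3, 4] i) i else true) 10 11264 = true := by decide +kernel

theorem fix32_12 : allR (fun i => bif Nat.blt i 22880 then Nat.beq (walk tb [1, 2, 3, 2, 3, 1, 2, 3, 2, 3, 1, 2, 3, 2, 3, 1, 2, 3, 2, 3, 1, 2, 3, 2, 3, 4, 1, 2, 3, 2, 3, 1, 2, 3, 2, 3, 1, 2, 3, 2, 3, 1, 2, 3, 2, 3, 1, 2, 3, 2, 3, 4, 1, 2, 3, 2, 3, 1, 2, 3, 2, 3, 1, 2, 3, 2, 3, 1, 2, 3, 2, 3, 1, 2, 3, 2, 3, 4] i) i else true) 10 12288 = true := by decide +kernel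

theorem fix32_13 : allR (fun i => bif Nat.blt i 22880 then Nat.beq (walk tb [1, 2, 3, 2, 3, 1, 2, 3, 2, 3, 1, 2, 3, 2, 3, 1, 2, 3, 2, 3, 1, 2, 3, 2, 3, 4, 1, 2, 3, 2, 3, 1, 2, 3, 2, 3, 1, 2, 3, 2, 3, 1, 2, 3, 2, 3, 1, 2, 3, 2, 3, 4, 1, 2, 3, 2, 3, 1, 2, 3, 2, 3, 1, 2, 3, 2, 3, 1, 2, 3, 2, 3, 1, 2, 3, 2, 3, 4] i) i else true) 10 13312 = true := by decide +kernel

theorem fix32_14 : allR (fun i => bif Nat.blt i 22880 then Nat.beq (walk tb [1, 2, 3, 2, 3, 1, 2, 3, 2, 3, 1, 2, 3, 2, 3, 1, 2, 3, 2, 3, 1, 2, 3, 2, 3, 4, 1, 2, 3, 2, 3, 1, 2, 3, 2, 3, 1, 2, 3, 2, 3, 1, 2, 3, 2, 3, 1, 2, 3, 2, 3, 4, 1, 2, 3, 2, 3, 1, 2, 3, 2, 3, 1, 2, 3, 2, 3, 1, 2, 3, 2, 3, 1, 2, 3, 2, 3, 4] i) i else true) 10 14336 = true := by decide +kernel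

theorem fix32_15 : allR (fun i => bif Nat.blt i 22880 then Nat.beq (walk tb [1, 2, 3, 2, 3, 1, 2, 3, 2, 3, 1, 2, 3, 2, 3, 1, 2, 3, 2, 3, 1, 2, 3, 2, 3, 4, 1, 2, 3, 2, 3, 1, 2, 3, 2, 3, 1, 2, 3, 2, 3, 1, 2, 3, 2, 3, 1, 2, 3, 2, 3, 4, 1, 2, 3, 2, 3, 1, 2, 3, 2, 3, 1, 2, 3, 2, 3, 1, 2, 3, 2, 3, 1, 2, 3, 2, 3, 4] i) i else true) 10 15360 = true := by decide +kernel

theorem fix32_16 : allR (fun i => bif Nat.blt i 22880 then Nat.beq (walk tb [1, 2, 3, 2, 3, 1, 2, 3, 2, 3, 1, 2, 3, 2, 3, 1, 2, 3, 2, 3, 1, 2, 3, 2, 3, 4, 1, 2, 3, 2, 3, 1, 2, 3, 2, 3, 1, 2, 3, 2, 3, 1, 2, 3, 2, 3, 1, 2, 3, 2, 3, 4, 1, 2, 3, 2, 3, 1, 2, 3, 2, 3, 1, 2, 3, 2, 3, 1, 2, 3, 2, 3, 1, 2, 3, 2, 3, 4] i) i else true) 10 16384 = true := by decide +kernel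

theorem fix32_17 : allR (fun i => bif Nat.blt i 22880 then Nat.beq (walk tb [1, 2, 3, 2, 3, 1, 2, 3, 2, 3, 1, 2, 3, 2, 3, 1, 2, 3, 2, 3, 1, 2, 3, 2, 3, 4, 1, 2, 3, 2, 3, 1, 2, 3, 2, 3, 1, 2, 3, 2, 3, 1, 2, 3, 2, 3, 1, 2, 3, 2, 3, 4, 1, 2, 3, 2, 3, 1, 2, 3, 2, 3, 1, 2, 3, 2, 3, 1, 2, 3, 2, 3, 1, 2, 3, 2, 3, 4] i) i else true) 10 17408 = true := by decide +kernel

theorem fix32_18 : allR (fun i => bif Nat.blt i 22880 then Nat.beq (walk tb [1, 2, 3, 2, 3, 1, 2, 3, 2, 3, 1, 2, 3, 2, 3, 1, 2, 3, 2, 3, 1, 2, 3, 2, 3, 4, 1, 2, 3, 2, 3, 1, 2, 3, 2, 3, 1, 2, 3, 2, 3, 1, 2, 3, 2, 3, 1, 2, 3, 2, 3, 4, 1, 2, 3, 2, 3, 1, 2, 3, 2, 3, 1, 2, 3, 2, 3, 1, 2, 3, 2, 3, 1, 2, 3, 2, 3, 4] i) i else true) 10 18432 = true := by decide +kernel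

theorem fix32_19 : allR (fun i => bif Nat.blt i 22880 then Nat.beq (walk tb [1, 2, 3, 2, 3, 1, 2, 3, 2, 3, 1, 2, 3, 2, 3, 1, 2, 3, 2, 3, 1, 2, 3, 2, 3, 4, 1, 2, 3, 2, 3, 1, 2, 3, 2, 3, 1, 2, 3, 2, 3, 1, 2, 3, 2, 3, 1, 2, 3, 2, 3, 4, 1, 2, 3, 2, 3, 1, 2, 3, 2, 3, 1, 2, 3, 2, 3, 1, 2, 3, 2, 3, 1, 2, 3, 2, 3, 4] i) i else true) 10 19456 = true := by decide +kernel

theorem fix32_20 : allR (fun i => bif Nat.blt i 22880 then Nat.beq (walk tb [1, 2, 3, 2, 3, 1, 2, 3, 2, 3, 1, 2, 3, 2, 3, 1, 2, 3, 2, 3, 1, 2, 3, 2, 3, 4, 1, 2, 3, 2, 3, 1, 2, 3, 2, 3, 1, 2, 3, 2, 3, 1, 2, 3, 2, 3, 1, 2, 3, 2, 3, 4, 1, 2, 3, 2, 3, 1, 2, 3, 2, 3, 1, 2, 3, 2, 3, 1, 2, 3, 2, 3, 1, 2, 3, 2, 3, 4] i) i else true) 10 20480 = true := by decide +kernel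

theorem fix32_21 : allR (fun i => bif Nat.blt i 22880 then Nat.beq (walk tb [1, 2, 3, 2, 3, 1, 2, 3, 2, 3, 1, 2, 3, 2, 3, 1, 2, 3, 2, 3, 1, 2, 3, 2, 3, 4, 1, 2, 3, 2, 3, 1, 2, 3, 2, 3, 1, 2, 3, 2, 3, 1, 2, 3, 2, 3, 1, 2, 3, 2, 3, 4, 1, 2, 3, 2, 3, 1, 2, 3, 2, 3, 1, 2, 3, 2, 3, 1, 2, 3, 2, 3, 1, 2, 3, 2, 3, 4] i) i else true) 10 21504 = true := by decide +kernel

theorem fix32_22 : allR (fun i => bif Nat.blt i 22880 then Nat.beq (walk tb [1, 2, 3, 2, 3, 1, 2, 3, 2, 3, 1, 2, 3, 2, 3, 1, 2, 3, 2, 3, 1, 2, 3, 2, 3, 4, 1, 2, 3, 2, 3, 1, 2, 3, 2, 3, 1, 2, 3, 2, 3, 1, 2, 3, 2, 3, 1, 2, 3, 2, 3, 4, 1, 2, 3, 2, 3, 1, 2, 3, 2, 3, 1, 2, 3, 2, 3, 1, 2, 3, 2, 3, 1, 2, 3, 2, 3, 4] i) i else true) 10 22528 = true := by decide +kernel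

theorem fix32_23 : allR (fun i => bif Nat.blt i 22880 then Nat.beq (walk tb [1, 2, 3, 2, 3, 1, 2, 3, 2, 3, 1, 2, 3, 2, 3, 1, 2, 3, 2, 3, 1, 2, 3, 2, 3, 4, 1, 2, 3, 2, 3, 1, 2, 3, 2, 3, 1, 2, 3, 2, 3, 1, 2, 3, 2, 3, 1, 2, 3, 2, 3, 4, 1, 2, 3, 2, 3, 1, 2, 3, 2, 3, 1, 2, 3, 2, 3, 1, 2, 3, 2, 3, 1, 2, 3, 2, 3, 4] i) i else true) 10 23552 = true := by decide +kernel

theorem fix32_24 : allR (fun i => bif Nat.blt i 22880 then Nat.beq (walk tb [1, 2, 3, 2, 3, 1, 2, 3, 2, 3, 1, 2, 3, 2, 3, 1, 2, 3, 2, 3, 1, 2, 3, 2, 3, 4, 1, 2, 3, 2, 3, 1, 2, 3, 2, 3, 1, 2, 3, 2, 3, 1, 2, 3, 2, 3, 1, 2, 3, 2, 3, 4, 1, 2, 3, 2, 3, 1, 2, 3, 2, 3, 1, 2, 3, 2, 3, 1, 2, 3, 2, 3, 1, 2, 3, 2, 3, 4] i) i else true) 10 24576 = true := by decide +kernel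

theorem fix32_25 : allR (fun i => bif Nat.blt i 22880 then Nat.beq (walk tb [1, 2, 3, 2, 3, 1, 2, 3, 2, 3, 1, 2, 3, 2, 3, 1, 2, 3, 2, 3, 1, 2, 3, 2, 3, 4, 1, 2, 3, 2, 3, 1, 2, 3, 2, 3, 1, 2, 3, 2, 3, 1, 2, 3, 2, 3, 1, 2, 3, 2, 3, 4, 1, 2, 3, 2, 3, 1, 2, 3, 2, 3, 1, 2, 3, 2, 3, 1, 2, 3, 2, 3, 1, 2, 3, 2, 3, 4] i) i else true) 10 25600 = true := by decide +kernel

theorem fix32_26 : allR (fun i => bif Nat.blt i 22880 then Nat.beq (walk tb [1, 2, 3, 2, 3, 1, 2, 3, 2, 3, 1, 2, 3, 2, 3, 1, 2, 3, 2, 3, 1, 2, 3, 2, 3, 4, 1, 2, 3, 2, 3, 1, 2, 3, 2, 3, 1, 2, 3, 2, 3, 1, 2, 3, 2, 3, 1, 2, 3, 2, 3, 4, 1, 2, 3, 2, 3, 1, 2, 3, 2, 3, 1, 2, 3, 2, 3, 1, 2, 3, 2, 3, 1, 2, 3, 2, 3, 4] i) i else true) 10 26624 = true := by decide +kernel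

theorem fix32_27 : allR (fun i => bif Nat.blt i 22880 then Nat.beq (walk tb [1, 2, 3, 2, 3, 1, 2, 3, 2, 3, 1, 2, 3, 2, 3, 1, 2, 3, 2, 3, 1, 2, 3, 2, 3, 4, 1, 2, 3, 2, 3, 1, 2, 3, 2, 3, 1, 2, 3, 2, 3, 1, 2, 3, 2, 3, 1, 2, 3, 2, 3, 4, 1, 2, 3, 2, 3, 1, 2, 3, 2, 3, 1, 2, 3, 2, 3, 1, 2, 3, 2, 3, 1, 2, 3, 2, 3, 4] i) i else true) 10 27648 = true := by decide +kernel

theorem fix32_28 : allR (fun i => bif Nat.blt i 22880 then Nat.beq (walk tb [1, 2, 3, 2, 3, 1, 2, 3, 2, 3, 1, 2, 3, 2, 3, 1, 2, 3, 2, 3, 1, 2, 3, 2, 3, 4, 1, 2, 3, 2, 3, 1, 2, 3, 2, 3, 1, 2, 3, 2, 3, 1, 2, 3, 2, 3, 1, 2, 3, 2, 3, 4, 1, 2, 3, 2, 3, 1, 2, 3, 2, 3, 1, 2, 3, 2, 3, 1, 2, 3, 2, 3, 1, 2, 3, 2, 3, 4] i) i else true) 10 28672 = true := by decide +kernel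

theorem fix32_29 : allR (fun i => bif Nat.blt i 22880 then Nat.beq (walk tb [1, 2, 3, 2, 3, 1, 2, 3, 2, 3, 1, 2, 3, 2, 3, 1, 2, 3, 2, 3, 1, 2, 3, 2, 3, 4, 1, 2, 3, 2, 3, 1, 2, 3, 2, 3, 1, 2, 3, 2, 3, 1, 2, 3, 2, 3, 1, 2, 3, 2, 3, 4, 1, 2, 3, 2, 3, 1, 2, 3, 2, 3, 1, 2, 3, 2, 3, 1, 2, 3, 2, 3, 1, 2, 3, 2, 3, 4] i) i else true) 10 29696 = true := by decide +kernel

theorem fix32_30 : allR (fun i => bif Nat.blt i 22880 then Nat.beq (walk tb [1, 2, 3, 2, 3, 1, 2, 3, 2, 3, 1, 2, 3, 2, 3, 1, 2, 3, 2, 3, 1, 2, 3, 2, 3, 4, 1, 2, 3, 2, 3, 1, 2, 3, 2, 3, 1, 2, 3, 2, 3, 1, 2, 3, 2, 3, 1, 2, 3, 2, 3, 4, 1, 2, 3, 2, 3, 1, 2, 3, 2, 3, 1, 2, 3, 2, 3, 1, 2, 3, 2, 3, 1, 2, 3, 2, 3, 4] i) i else true) 10 30720 = true := by decide +kernel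

theorem fix32_31 : allR (fun i => bif Nat.blt i 22880 then Nat.beq (walk tb [1, 2, 3, 2, 3, 1, 2, 3, 2, 3, 1, 2, 3, 2, 3, 1, 2, 3, 2, 3, 1, 2, 3, 2, 3, 4, 1, 2, 3, 2, 3, 1, 2, 3, 2, 3, 1, 2, 3, 2, 3, 1, 2, 3, 2, 3, 1, 2, 3, 2, 3, 4, 1, 2, 3, 2, 3, 1, 2, 3, 2, 3, 1, 2, 3, 2, 3, 1, 2, 3, 2, 3, 1, 2, 3, 2, 3, 4] i) i else true) 10 31744 = true := by decide +kernel

theorem fix32 : fixesAll 22880 tb [1, 2, 3, 2, 3, 1, 2, 3, 2, 3, 1, 2, 3, 2, 3, 1, 2, 3, 2, 3, 1, 2, 3, 2, 3, 4, 1, 2, 3, 2, 3, 1, 2, 3, 2, 3, 1, 2, 3, 2, 3, 1, 2, 3, 2, 3, 1, 2, 3, 2, 3, 4, 1, 2, 3, 2, 3, 1, 2, 3, 2, 3, 1, 2, 3, 2, 3, 1, 2, 3, 2, 3, 1, 2, 3, 2, 3, 4] 15 = true :=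
  (allR_join (d := 14) (lo := 0) (hi := 16384) (allR_join (d := 13) (lo := 0) (hi := 8192) (allR_join (d := 12) (lo := 0) (hi := 4096) (allR_join (d := 11) (lo := 0) (hi := 2048) (allR_join (d := 10) (lo := 0) (hi := 1024) fix32_0 (by decide +kernel) fix32_1) (by decide +kernel) (allR_join (d := 10) (lo := 2048) (hi := 3072) fix32_2 (by decide +kernel) fix32_3)) (by decide +kernel) (allR_join (d := 11) (lo := 4096) (hi := 6144) (allR_join (d := 10) (lo := 4096) (hi := 5120) fix32_4 (by decide +kernel) fix32_5) (by decide +kernel) (allR_join (d := 10) (lo := 6144) (hi := 7168) fix32_6 (by decide +kernel) fix32_7))) (by decide +kernel) (allR_join (d := 12) (lo := 8192) (hi := 12288) (allR_join (d := 11) (lo := 8192) (hi := 10240) (allR_join (d := 10) (lo := 8192) (hi := 9216) fix32_8 (by decide +kernel) fix32_9) (by decide +kernel) (allR_join (d := 10) (lo := 10240) (hi := 11264)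 fix32_10 (by decide +kernel) fix32_11)) (by decide +kernel) (allR_join (d := 11) (lo := 12288) (hi := 14336) (allR_join (d := 10) (lo := 12288) (hi := 13312) fix32_12 (by decide +kernel) fix32_13) (by decide +kernel) (allR_join (d := 10) (lo := 14336) (hi := 15360) fix32_14 (by decide +kernel) fix32_15)))) (by decide +kernel) (allR_join (d := 13) (lo := 16384) (hi := 24576) (allR_join (d := 12) (lo := 16384) (hi := 20480) (allR_join (d := 11) (lo := 16384) (hi := 18432) (allR_join (d := 10) (lo := 16384) (hi := 17408) fix32_16 (by decide +kernel) fix32_17) (by decide +kernel) (allR_join (d := 10) (lo := 18432) (hi := 19456) fix32_18 (by decide +kernel) fix32_19)) (by decide +kernel) (allR_join (d := 11) (lo := 20480) (hi := 22528) (allR_join (d := 10) (lo := 20480) (hi := 21504) fix32_20 (by decide +kernel) fix32_21) (by decide +kernel) (allR_join (d := 10) (lo := 22528) (hi :=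 23552) fix32_22 (by decide +kernel) fix32_23))) (by decide +kernel) (allR_join (d := 12) (lo := 24576) (hi := 28672) (allR_join (d := 11) (lo := 24576) (hi := 26624) (allR_join (d := 10) (lo := 24576) (hi := 25600) fix32_24 (by decide +kernel) fix32_25) (by decide +kernel) (allR_join (d := 10) (lo := 26624) (hi := 27648) fix32_26 (by decide +kernel) fix32_27)) (by decide +kernel) (allR_join (d := 11) (lo := 28672) (hi := 30720) (allR_join (d := 10) (lo := 28672) (hi := 29696) fix32_28 (by decide +kernel) fix32_29) (by decide +kernel) (allR_join (d := 10) (lo := 30720) (hi := 31744) fix32_30 (by decide +kernel) fix32_31)))))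

theorem valid_0 : allR (validEntry 22880 7 tb id) 12 0 = true := by decide +kernel

theorem valid_1 : allR (validEntry 22880 7 tb id) 12 4096 = true := by decide +kernel

theorem valid_2 : allR (validEntry 22880 7 tb id) 12 8192 = true := by decide +kernel

theorem valid_3 : allR (validEntry 22880 7 tb id) 12 12288 = true := by decide +kernel

theorem valid_4 : allR (validEntry 22880 7 tb id) 12 16384 = true := by decide +kernel

theorem valid_5 : allR (validEntry 22880 7 tb id) 12 20480 = true := by decide +kernel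

theorem valid_6 : allR (validEntry 22880 7 tb id) 12 24576 = true := by decide +kernel

theorem valid_7 : allR (validEntry 22880 7 tb id) 12 28672 = true := by decide +kernel

theorem valid : allR (validEntry 22880 7 tb id) 15 0 = true :=
  (allR_join (d := 14) (lo := 0) (hi := 16384) (allR_join (d := 13) (lo := 0) (hi := 8192) (allR_join (d := 12) (lo := 0) (hi := 4096) valid_0 (by decide +kernel) valid_1) (by decide +kernel) (allR_join (d := 12) (lo := 8192) (hi := 12288) valid_2 (by decide +kernel) valid_3)) (by decide +kernel) (allR_join (d := 13) (lo := 16384) (hi := 24576) (allR_join (d := 12) (lo := 16384) (hi := 20480) valid_4 (by decide +kernel) valid_5) (by decide +kernel) (allR_join (d := 12) (lo := 24576) (hi := 28672) valid_6 (by decide +kernel) valid_7)))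

theorem treeValid_0 : allR (treeOK 22880 7 tb parN parX) 14 0 = true := by decide +kernel

theorem treeValid_1 : allR (treeOK 22880 7 tb parN parX) 14 16384 = true := by decide +kernel

theorem treeValid : allR (treeOK 22880 7 tb parN parX) 15 0 = true :=
  (allR_join (d := 14) (lo := 0) (hi := 16384) treeValid_0 (by decide +kernel) treeValid_1)

theorem fixes : CfsgLib.CosetEnum.Suz.words.all (fun w => fixesAll 22880 tb w 15) = true := by
  simp only [CfsgLib.CosetEnum.Suz.words, List.all_cons, List.all_nil, Bool.and_self, fix0, fix1, fix2, fix3, fix4, fix5, fix6, fix7, fix8, fix9, fix10, fix11, fix12, fix13, fix14, fix15, fix16, fix17, fix18, fix19, fix20, fix21, fix22, fix23, fix24, fix25, fix26, fix27, fix28, fix29, fix30, fix31, fix32]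

theorem fixesZero : sW.all (fun w => Nat.beq (walk tb w 0) 0) = true := by decide +kernel

noncomputable instance neZero : NeZero enum.n := ⟨by decide +kernel⟩

theorem action :
    ∃ (φ : CfsgLib.CosetEnum.Suz.setup.Grp →* Equiv.Perm (Fin enum.n))
      (e : CfsgLib.CosetEnum.Suz.setup.Grp ⧸ enum.H ≃ Fin enum.n),
      (∀ (w : List ℕ), (∀ x ∈ w, x < CfsgLib.CosetEnum.Suz.setup.k) → ∀ i : Fin enum.n,
        ((φ (prodw CfsgLib.CosetEnum.Suz.setup.g w))⁻¹ i).val = walk enum.tb w i) ∧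
      (∀ (y : CfsgLib.CosetEnum.Suz.setup.Grp) (q : CfsgLib.CosetEnum.Suz.setup.Grp ⧸ enum.H),
        e (y • q) = φ y (e q)) ∧
      e ((1 : CfsgLib.CosetEnum.Suz.setup.Grp) : CfsgLib.CosetEnum.Suz.setup.Grp ⧸ enum.H) = 0 :=
  enum.exists_action 15 B196 (by decide +kernel) (by decide +kernel) good196 full valid treeValid fixes fixesZero

end CfsgLib.CosetEnum.SuzU
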